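import Cfsg.Agent.Lib.ToddCox.L37X.Data0
set_option autoImplicit false
set_option maxRecDepth 100000
namespace Cfsg.Agent.Lib.ToddCox.L37X
def eT_0_2 (j : ℕ) : ℕ := bif Nat.blt j 1 then E_0 else E_1
def eT (j : ℕ) : ℕ := (eT_0_2 j)
noncomputable def chunkF (h : ℕ) : ℕ := Nat.rec (motive := fun _ => ℕ) (eT 0) (fun n _ => eT (Nat.succ n)) h
noncomputable def Eo (r : ℕ) : ℕ := Nat.land (Nat.shiftRight (chunkF (Nat.shiftRight r 8)) (Nat.mul (Nat.land r 255) 54)) 18014398509481983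
def invT : ℕ := 0xffef7cefae78df6d74cf2c70beeb6caeaa689e69648e28607de75c6da6585d65544d24503ce34c2ca2481c61440c2040
def inv (y : ℕ) : ℕ := invOf invT y
def Wt_0_2 (j : ℕ) : List ℕ := bif Nat.blt j 1 then [nat_lit 0, nat_lit 1, nat_lit 0, nat_lit 1] else [nat_lit 1, nat_lit 2, nat_lit 1, nat_lit 2]
def Wt_3_5 (j : ℕ) : List ℕ := bif Nat.blt j 4 then [nat_lit 0, nat_lit 4, nat_lit 1, nat_lit 4, nat_lit 1] else [nat_lit 3, nat_lit 4, nat_lit 3, nat_lit 4]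
def Wt_2_5 (j : ℕ) : List ℕ := bif Nat.blt j 3 then [nat_lit 1, nat_lit 4, nat_lit 1, nat_lit 0, nat_lit 4] else (Wt_3_5 j)
def Wt_0_5 (j : ℕ) : List ℕ := bif Nat.blt j 2 then (Wt_0_2 j) else (Wt_2_5 j)
def Wt_6_8 (j : ℕ) : List ℕ := bif Nat.blt j 7 then [nat_lit 4, nat_lit 5, nat_lit 4, nat_lit 3, nat_lit 5] else [nat_lit 3, nat_lit 5, nat_lit 4, nat_lit 5, nat_lit 4]
def Wt_5_8 (j : ℕ) : List ℕ := bif Nat.blt j 6 then [nat_lit 4, nat_lit 1, nat_lit 0, nat_lit 4, nat_lit 1] else (Wt_6_8 j)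
def Wt_9_11 (j : ℕ) : List ℕ := bif Nat.blt j 10 then [nat_lit 3, nat_lit 4, nat_lit 5, nat_lit 2, nat_lit 2, nat_lit 0, nat_lit 0, nat_lit 1, nat_lit 1, nat_lit 7] else [nat_lit 4, nat_lit 3, nat_lit 4, nat_lit 3]
def Wt_8_11 (j : ℕ) : List ℕ := bif Nat.blt j 9 then [nat_lit 7, nat_lit 1, nat_lit 1, nat_lit 0, nat_lit 0, nat_lit 2, nat_lit 2, nat_lit 5, nat_lit 4, nat_lit 3] else (Wt_9_11 j)
def Wt_5_11 (j : ℕ) : List ℕ := bif Nat.blt j 8 then (Wt_5_8 j) else (Wt_8_11 j)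
def Wt_0_11 (j : ℕ) : List ℕ := bif Nat.blt j 5 then (Wt_0_5 j) else (Wt_5_11 j)
def Wt_12_14 (j : ℕ) : List ℕ := bif Nat.blt j 13 then [nat_lit 4, nat_lit 4, nat_lit 63] else [nat_lit 5, nat_lit 5, nat_lit 63]
def Wt_11_14 (j : ℕ) : List ℕ := bif Nat.blt j 12 then [nat_lit 63, nat_lit 3, nat_lit 4, nat_lit 5, nat_lit 2, nat_lit 2, nat_lit 0, nat_lit 0, nat_lit 1, nat_lit 1, nat_lit 7] else (Wt_12_14 j)
def Wt_15_17 (j : ℕ) : List ℕ := bif Nat.blt j 16 then [nat_lit 3, nat_lit 3, nat_lit 63] else [nat_lit 63, nat_lit 4, nat_lit 63, nat_lit 4]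
def Wt_14_17 (j : ℕ) : List ℕ := bif Nat.blt j 15 then [nat_lit 63, nat_lit 7, nat_lit 1, nat_lit 1, nat_lit 0, nat_lit 0, nat_lit 2, nat_lit 2, nat_lit 5, nat_lit 4, nat_lit 3] else (Wt_15_17 j)
def Wt_11_17 (j : ℕ) : List ℕ := bif Nat.blt j 14 then (Wt_11_14 j) else (Wt_14_17 j)
def Wt_18_20 (j : ℕ) : List ℕ := bif Nat.blt j 19 then [nat_lit 3, nat_lit 1, nat_lit 0, nat_lit 3, nat_lit 2, nat_lit 1] else [nat_lit 3, nat_lit 0, nat_lit 1, nat_lit 3, nat_lit 1, nat_lit 2]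
def Wt_17_20 (j : ℕ) : List ℕ := bif Nat.blt j 18 then [nat_lit 63, nat_lit 5, nat_lit 63, nat_lit 5] else (Wt_18_20 j)
def Wt_21_23 (j : ℕ) : List ℕ := bif Nat.blt j 22 then [nat_lit 2, nat_lit 3, nat_lit 0, nat_lit 1, nat_lit 3, nat_lit 1] else [nat_lit 0, nat_lit 1, nat_lit 3, nat_lit 1, nat_lit 2, nat_lit 3]
def Wt_20_23 (j : ℕ) : List ℕ := bif Nat.blt j 21 then [nat_lit 6, nat_lit 3, nat_lit 2, nat_lit 0, nat_lit 6, nat_lit 0] else (Wt_21_23 j)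
def Wt_17_23 (j : ℕ) : List ℕ := bif Nat.blt j 20 then (Wt_17_20 j) else (Wt_20_23 j)
def Wt_11_23 (j : ℕ) : List ℕ := bif Nat.blt j 17 then (Wt_11_17 j) else (Wt_17_23 j)
def Wt_0_23 (j : ℕ) : List ℕ := bif Nat.blt j 11 then (Wt_0_11 j) else (Wt_11_23 j)
def Wt_24_26 (j : ℕ) : List ℕ := bif Nat.blt j 25 then [nat_lit 63, nat_lit 1, nat_lit 63, nat_lit 1] else [nat_lit 63, nat_lit 2, nat_lit 63, nat_lit 2]
def Wt_23_26 (j : ℕ) : List ℕ := bif Nat.blt j 24 then [nat_lit 7, nat_lit 0, nat_lit 7, nat_lit 0, nat_lit 7, nat_lit 0] else (Wt_24_26 j)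
def Wt_27_29 (j : ℕ) : List ℕ := bif Nat.blt j 28 then [nat_lit 1, nat_lit 1, nat_lit 63] else [nat_lit 2, nat_lit 2, nat_lit 63]
def Wt_26_29 (j : ℕ) : List ℕ := bif Nat.blt j 27 then [nat_lit 63, nat_lit 0, nat_lit 63, nat_lit 0] else (Wt_27_29 j)
def Wt_23_29 (j : ℕ) : List ℕ := bif Nat.blt j 26 then (Wt_23_26 j) else (Wt_26_29 j)
def Wt_30_32 (j : ℕ) : List ℕ := bif Nat.blt j 31 then [nat_lit 63, nat_lit 0, nat_lit 3, nat_lit 0, nat_lit 3, nat_lit 0, nat_lit 3, nat_lit 0, nat_lit 3, nat_lit 0, nat_lit 3, nat_lit 0, nat_lit 3, nat_lit 0, nat_lit 3] else [nat_lit 7, nat_lit 7, nat_lit 63]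
def Wt_29_32 (j : ℕ) : List ℕ := bif Nat.blt j 30 then [nat_lit 0, nat_lit 0, nat_lit 63] else (Wt_30_32 j)
def Wt_33_35 (j : ℕ) : List ℕ := bif Nat.blt j 34 then [nat_lit 1, nat_lit 3, nat_lit 1, nat_lit 0, nat_lit 3, nat_lit 2] else [nat_lit 63, nat_lit 5, nat_lit 4, nat_lit 7, nat_lit 0, nat_lit 3, nat_lit 1, nat_lit 5, nat_lit 7, nat_lit 1, nat_lit 3, nat_lit 6]
def Wt_32_35 (j : ℕ) : List ℕ := bif Nat.blt j 33 then [nat_lit 2, nat_lit 0, nat_lit 6, nat_lit 0, nat_lit 6, nat_lit 3] else (Wt_33_35 j)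
def Wt_29_35 (j : ℕ) : List ℕ := bif Nat.blt j 32 then (Wt_29_32 j) else (Wt_32_35 j)
def Wt_23_35 (j : ℕ) : List ℕ := bif Nat.blt j 29 then (Wt_23_29 j) else (Wt_29_35 j)
def Wt_36_38 (j : ℕ) : List ℕ := bif Nat.blt j 37 then [nat_lit 63, nat_lit 3, nat_lit 63, nat_lit 3] else [nat_lit 6, nat_lit 6, nat_lit 63]
def Wt_35_38 (j : ℕ) : List ℕ := bif Nat.blt j 36 then [nat_lit 63, nat_lit 6, nat_lit 63, nat_lit 6] else (Wt_36_38 j)
def Wt_39_41 (j : ℕ) : List ℕ := bif Nat.blt j 40 then [nat_lit 2, nat_lit 3, nat_lit 7, nat_lit 3, nat_lit 2, nat_lit 0, nat_lit 7, nat_lit 4] else [nat_lit 0, nat_lit 7, nat_lit 4, nat_lit 2, nat_lit 3, nat_lit 7, nat_lit 3, nat_lit 2]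
def Wt_38_41 (j : ℕ) : List ℕ := bif Nat.blt j 39 then [nat_lit 63, nat_lit 2, nat_lit 63, nat_lit 2, nat_lit 63] else (Wt_39_41 j)
def Wt_35_41 (j : ℕ) : List ℕ := bif Nat.blt j 38 then (Wt_35_38 j) else (Wt_38_41 j)
def Wt_42_44 (j : ℕ) : List ℕ := bif Nat.blt j 43 then [nat_lit 63, nat_lit 4, nat_lit 63, nat_lit 4, nat_lit 63] else [nat_lit 63, nat_lit 0, nat_lit 7, nat_lit 4, nat_lit 2, nat_lit 3, nat_lit 7, nat_lit 3, nat_lit 2]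
def Wt_41_44 (j : ℕ) : List ℕ := bif Nat.blt j 42 then [nat_lit 63, nat_lit 3, nat_lit 1, nat_lit 5, nat_lit 7, nat_lit 1, nat_lit 3, nat_lit 6, nat_lit 5, nat_lit 4, nat_lit 7, nat_lit 0] else (Wt_42_44 j)
def Wt_45_47 (j : ℕ) : List ℕ := bif Nat.blt j 46 then [nat_lit 63, nat_lit 7, nat_lit 63, nat_lit 7, nat_lit 63] else [nat_lit 63, nat_lit 5, nat_lit 1, nat_lit 5, nat_lit 1, nat_lit 5, nat_lit 1]
def Wt_44_47 (j : ℕ) : List ℕ := bif Nat.blt j 45 then [nat_lit 63, nat_lit 3, nat_lit 7, nat_lit 3, nat_lit 2, nat_lit 0, nat_lit 7, nat_lit 4, nat_lit 2] else (Wt_45_47 j)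
def Wt_41_47 (j : ℕ) : List ℕ := bif Nat.blt j 44 then (Wt_41_44 j) else (Wt_44_47 j)
def Wt_35_47 (j : ℕ) : List ℕ := bif Nat.blt j 41 then (Wt_35_41 j) else (Wt_41_47 j)
def Wt_23_47 (j : ℕ) : List ℕ := bif Nat.blt j 35 then (Wt_23_35 j) else (Wt_35_47 j)
def Wt_0_47 (j : ℕ) : List ℕ := bif Nat.blt j 23 then (Wt_0_23 j) else (Wt_23_47 j)
def Wt (j : ℕ) : List ℕ := (Wt_0_47 j)
def W (j : ℕ) : List ℕ := bif Nat.blt j 47 then Wt j else []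
theorem W_ge (j : ℕ) (h : 47 ≤ j) : W j = [] := by
  unfold W
  rw [blt_false_of_le h]
  rfl
def Hl : List ℕ := []
def isH (y : ℕ) : Bool := List.elem y Hl
def Rb : List (List ℕ) := [[nat_lit 0, nat_lit 0],
  [nat_lit 1, nat_lit 1],
  [nat_lit 1, nat_lit 0, nat_lit 1, nat_lit 0],
  [nat_lit 2, nat_lit 2],
  [nat_lit 2, nat_lit 0, nat_lit 2, nat_lit 0, nat_lit 2, nat_lit 0, nat_lit 2, nat_lit 0, nat_lit 2, nat_lit 0, nat_lit 2, nat_lit 0, nat_lit 2, nat_lit 0],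
  [nat_lit 2, nat_lit 1, nat_lit 2, nat_lit 1],
  [nat_lit 3, nat_lit 3],
  [nat_lit 3, nat_lit 0, nat_lit 3, nat_lit 0, nat_lit 3, nat_lit 0, nat_lit 3, nat_lit 0, nat_lit 3, nat_lit 0, nat_lit 3, nat_lit 0, nat_lit 3, nat_lit 0],
  [nat_lit 0, nat_lit 3, nat_lit 2, nat_lit 1, nat_lit 3, nat_lit 1],
  [nat_lit 4, nat_lit 4],
  [nat_lit 4, nat_lit 3, nat_lit 4, nat_lit 3],
  [nat_lit 4, nat_lit 1, nat_lit 4, nat_lit 1, nat_lit 0],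
  [nat_lit 5, nat_lit 5],
  [nat_lit 5, nat_lit 1, nat_lit 5, nat_lit 1, nat_lit 5, nat_lit 1],
  [nat_lit 5, nat_lit 4, nat_lit 5, nat_lit 4, nat_lit 3],
  [nat_lit 0, nat_lit 5, nat_lit 0, nat_lit 2, nat_lit 0, nat_lit 5, nat_lit 0, nat_lit 2],
  [nat_lit 6, nat_lit 6],
  [nat_lit 6, nat_lit 1, nat_lit 6, nat_lit 1, nat_lit 6, nat_lit 1],
  [nat_lit 0, nat_lit 6, nat_lit 0, nat_lit 6, nat_lit 3, nat_lit 2],
  [nat_lit 0, nat_lit 6, nat_lit 1, nat_lit 5, nat_lit 6, nat_lit 4, nat_lit 6, nat_lit 5, nat_lit 3, nat_lit 1],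
  [nat_lit 7, nat_lit 7],
  [nat_lit 7, nat_lit 0, nat_lit 7, nat_lit 0, nat_lit 7, nat_lit 0],
  [nat_lit 7, nat_lit 5, nat_lit 7, nat_lit 5, nat_lit 7, nat_lit 5, nat_lit 7, nat_lit 5, nat_lit 7, nat_lit 5, nat_lit 7, nat_lit 5],
  [nat_lit 0, nat_lit 7, nat_lit 4, nat_lit 2, nat_lit 3, nat_lit 7, nat_lit 3, nat_lit 2],
  [nat_lit 7, nat_lit 4, nat_lit 5, nat_lit 6, nat_lit 3, nat_lit 1, nat_lit 7, nat_lit 5, nat_lit 1, nat_lit 3, nat_lit 0],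
  [nat_lit 1, nat_lit 0, nat_lit 0, nat_lit 2, nat_lit 2, nat_lit 5, nat_lit 4, nat_lit 3, nat_lit 7, nat_lit 1],
  []]
def spT (j : ℕ) : ℕ := nat_lit 0x1a000000280000802e0000002e00000012000020310000202e0000802e00000006000000200000000c00000020000100310000801000000024000000280000200e0000000000000006000000020000000000000006000000020000202a0000001100008011000080240000a0110000a01000000018000000120000000c000100320000001800000012000040330000201400006033000120320000001c0000401c000060160000001400000016000040160000000a00000004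
def sp (j : ℕ) : ℕ := Nat.land (Nat.shiftRight (spT (Nat.shiftRight j 6)) (Nat.mul (Nat.land j 63) 32)) 4294967295
theorem Eo_lt (r : ℕ) : Eo r < 18014398509481984 := land54_lt _
def cT (j : ℕ) : ℕ := nat_lit 0x0
noncomputable def cChunk (h : ℕ) : ℕ := Nat.rec (motive := fun _ => ℕ) (cT 0) (fun n _ => cT (Nat.succ n)) h
noncomputable def cF (i : ℕ) : ℕ := Nat.land (Nat.shiftRight (cChunk (Nat.shiftRight i 7)) (Nat.mul (Nat.land i 127) 24)) 16777215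
theorem cF_lt (i : ℕ) : cF i < 16777216 := land24_lt _
theorem cF_zero : cF 0 = 0 := by decide +kernel
def nDef : ℕ := 50
def nEv : ℕ := 158
def nW : ℕ := 47
def N : ℕ := 1
def ys : List ℕ := [nat_lit 0, nat_lit 1, nat_lit 2, nat_lit 3, nat_lit 4, nat_lit 5, nat_lit 6, nat_lit 7]
def xw : List ℕ := [nat_lit 1, nat_lit 0, nat_lit 0, nat_lit 2, nat_lit 2, nat_lit 5, nat_lit 4, nat_lit 3, nat_lit 7, nat_lit 1]
end Cfsg.Agent.Lib.ToddCox.L37X
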